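import Cfsg.Agent.Chars.Sums
import Cfsg.Agent.Chars.Perm
import Cfsg.Agent.Chars.Construct
import Cfsg.Prelude.Def_ParabolicCharacters

/-!
# The centre of the commutant of a transitive permutation representation

Its dimension is the number of irreducible constituents of the permutation character.
-/

set_option autoImplicit false

open Matrix
open scoped ComplexConjugate

namespace Cfsg.Lib.Hecke

open Cfsg.Lib.Chars

attribute [local instance high] Fintype.ofFinite

variable {G : Type*} [Group G] [Finite G] (B : Subgroup G)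

open Classical in
/-- The permutation matrix. -/
noncomputable def pm (g : G) : Matrix (G ⧸ B) (G ⧸ B) ℂ :=
  Matrix.of fun x z => if x = g • z then 1 else 0

variable {B}

theorem pm_mul_apply (g : G) (M : Matrix (G ⧸ B) (G ⧸ B) ℂ) (x z : G ⧸ B) :
    (pm B g * M) x z = M (g⁻¹ • x) z := by
  classical
  have h : ∀ y, x = g • y ↔ y = g⁻¹ • x := fun y => by rw [eq_inv_smul_iff, eq_comm]
  simp [Matrix.mul_apply, pm, h]

theorem mul_pm_apply (g : G) (M : Matrix (G ⧸ B) (G ⧸ B) ℂ) (x z : G ⧸ B) :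
    (M * pm B g) x z = M x (g • z) := by
  classical
  simp [Matrix.mul_apply, pm]

open Classical in
theorem pm_one : pm B (1 : G) = 1 := by
  refine Matrix.ext fun x z => ?_
  simp [pm, Matrix.one_apply]

theorem pm_mul (g h : G) : pm B (g * h) = pm B g * pm B h := by
  refine Matrix.ext fun x z => ?_
  rw [mul_pm_apply]
  simp only [pm, Matrix.of_apply]
  rw [mul_smul]

theorem pm_conjTranspose (g : G) : (pm B g)ᴴ = pm B g⁻¹ := by
  classical
  refine Matrix.ext fun x z => ?_
  simp [pm, Matrix.conjTranspose_apply, apply_ite star, eq_inv_smul_iff, eq_comm (a := z)]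

theorem trace_pm (g : G) : (pm B g).trace = Cfsg.fixedPointCharacter B g := by
  classical
  simp only [Matrix.trace, Matrix.diag_apply, pm, Matrix.of_apply, Finset.sum_boole,
    Cfsg.fixedPointCharacter]
  rw [Nat.card_eq_fintype_card, ← Set.toFinset_card]
  congr 2
  ext x
  simp [MulAction.mem_fixedBy, eq_comm (a := x)]

variable (B)

/-- The operators commuting with the group. -/
def Inv (M : Matrix (G ⧸ B) (G ⧸ B) ℂ) : Prop := ∀ g, Commute (pm B g) M

/-- The centre of the commutant. -/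
noncomputable def commCentre : Submodule ℂ (Matrix (G ⧸ B) (G ⧸ B) ℂ) where
  carrier := {M | Inv B M ∧ ∀ N, Inv B N → Commute N M}
  add_mem' hx hy :=
    ⟨fun g => (hx.1 g).add_right (hy.1 g), fun N hN => (hx.2 N hN).add_right (hy.2 N hN)⟩
  zero_mem' := ⟨fun _ => Commute.zero_right _, fun _ _ => Commute.zero_right _⟩
  smul_mem' c _ hx := ⟨fun g => (hx.1 g).smul_right c, fun N hN => (hx.2 N hN).smul_right c⟩

/-- The operator of a function, with inverted argument. -/
noncomputable def opFun : (G → ℂ) →ₗ[ℂ] Matrix (G ⧸ B) (G ⧸ B) ℂ where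
  toFun f := ∑ a, f a⁻¹ • pm B a
  map_add' f f' := by simp [add_smul, Finset.sum_add_distrib]
  map_smul' c f := by simp [Finset.smul_sum, mul_smul]

variable {B}

theorem inv_iff {M : Matrix (G ⧸ B) (G ⧸ B) ℂ} :
    Inv B M ↔ ∀ (g : G) (x z : G ⧸ B), M (g • x) (g • z) = M x z := by
  constructor
  · intro h g x z
    have := congrFun (congrFun (h g).eq (g • x)) z
    rw [pm_mul_apply, mul_pm_apply, inv_smul_smul] at this
    exact this.symm
  · intro h g
    refine Matrix.ext fun x z => ?_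
    rw [pm_mul_apply, mul_pm_apply, ← h g (g⁻¹ • x) z, smul_inv_smul]

theorem inv_opFun {f : G → ℂ} (hf : Cfsg.IsClassFunction G f) : Inv B (opFun B f) := by
  intro g
  show pm B g * ∑ a, f a⁻¹ • pm B a = (∑ a, f a⁻¹ • pm B a) * pm B g
  simp only [Finset.mul_sum, Finset.sum_mul, mul_smul_comm, smul_mul_assoc, ← pm_mul]
  refine Fintype.sum_equiv (MulAut.conj g).toEquiv _ _ fun a => ?_
  simp only [MulEquiv.toEquiv_eq_coe, MulEquiv.coe_toEquiv, MulAut.conj_apply]
  rw [show (g * a * g⁻¹)⁻¹ = g * a⁻¹ * g⁻¹ by group, hf, show g * a * g⁻¹ * g = g * a by group]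

theorem opFun_mem {f : G → ℂ} (hf : Cfsg.IsClassFunction G f) : opFun B f ∈ commCentre B :=
  ⟨inv_opFun hf, fun N hN => Commute.sum_right _ _ _ fun a _ => ((hN a).symm).smul_right _⟩

open Classical in
theorem opFun_mul_opFun (χ ψ : Cfsg.IrrCharacter G) :
    opFun B (χ : G → ℂ) * opFun B (ψ : G → ℂ) =
      (if χ = ψ then (Nat.card G : ℂ) / (ψ : G → ℂ) 1 else 0) • opFun B (ψ : G → ℂ) := by
  have hdelta : ∑ a, (χ : G → ℂ) a⁻¹ * (ψ : G → ℂ) a =
      if χ = ψ then (Nat.card G : ℂ) else 0 := by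
    have h := classInner_irrCharacter ψ χ
    rw [classInner_def, inv_mul_eq_iff_eq_mul₀ (by exact_mod_cast Nat.card_pos.ne'), mul_ite,
      mul_one, mul_zero] at h
    rw [show (if χ = ψ then (Nat.card G : ℂ) else 0) = if ψ = χ then (Nat.card G : ℂ) else 0 from
      if_congr eq_comm rfl rfl, ← h]
    refine Finset.sum_congr rfl fun a _ => ?_
    rw [IsCharacter.conj_inv (isCharacter_of_irr χ.2), mul_comm]
  have key : ∀ g, ∑ a, (χ : G → ℂ) a⁻¹ * (ψ : G → ℂ) (g⁻¹ * a) =
      (if χ = ψ then (Nat.card G : ℂ) / (ψ : G → ℂ) 1 else 0) * (ψ : G → ℂ) g⁻¹ := by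
    intro g
    obtain ⟨n, ρ, hρ, hψ⟩ := ψ.2
    have h := sum_smul_rep_trace ρ (f := fun a => (χ : G → ℂ) a⁻¹) (fun a b => by
      show (χ : G → ℂ) (b * a * b⁻¹)⁻¹ = _
      rw [show (b * a * b⁻¹)⁻¹ = b * a⁻¹ * b⁻¹ by group]
      exact isClassFunction_irr χ a⁻¹ b) g⁻¹
    rw [hψ, ← ρ.char_one, hψ, hdelta] at h
    rw [Finset.sum_congr rfl fun a _ => by
      rw [classFunction_mul_comm (isClassFunction_irr ψ) g⁻¹ a], h]
    split_ifs <;> simp
  show (∑ a, (χ : G → ℂ) a⁻¹ • pm B a) * (∑ b, (ψ : G → ℂ) b⁻¹ • pm B b) =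
    _ • ∑ g, (ψ : G → ℂ) g⁻¹ • pm B g
  simp only [Finset.smul_sum, smul_smul, ← key, Finset.sum_smul, Finset.sum_mul]
  rw [Finset.sum_comm (γ := G)]
  refine Finset.sum_congr rfl fun a _ => ?_
  rw [Finset.mul_sum]
  refine Fintype.sum_equiv (Equiv.mulLeft a) _ _ fun b => ?_
  rw [Equiv.coe_mulLeft, smul_mul_smul_comm, ← pm_mul, _root_.mul_inv_rev, inv_mul_cancel_right]

theorem trace_opFun (χ : Cfsg.IrrCharacter G) :
    (opFun B (χ : G → ℂ)).trace =
      (Nat.card G : ℂ) * Cfsg.classInner (Cfsg.fixedPointCharacter B) χ := by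
  show (∑ a, (χ : G → ℂ) a⁻¹ • pm B a).trace = _
  rw [classInner_def, mul_inv_cancel_left₀ (by exact_mod_cast Nat.card_pos.ne'), Matrix.trace_sum]
  refine Finset.sum_congr rfl fun a _ => ?_
  rw [Matrix.trace_smul, trace_pm, IsCharacter.conj_inv (isCharacter_of_irr χ.2), smul_eq_mul,
    mul_comm]

theorem opFun_eq_zero {χ : Cfsg.IrrCharacter G}
    (h : Cfsg.classInner (Cfsg.fixedPointCharacter B) χ = 0) : opFun B (χ : G → ℂ) = 0 := by
  classical
  have h1 := IsIrrCharacter.apply_one_ne_zero χ.2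
  have hG : (Nat.card G : ℂ) ≠ 0 := by exact_mod_cast Nat.card_pos.ne'
  set E := ((χ : G → ℂ) 1 / Nat.card G) • opFun B (χ : G → ℂ) with hE
  have hidem : IsIdempotentElem E.toLin' := by
    show E.toLin' * E.toLin' = E.toLin'
    rw [Module.End.mul_eq_comp, ← Matrix.toLin'_mul]
    congr 1
    rw [hE, smul_mul_smul_comm, opFun_mul_opFun, if_pos rfl, smul_smul]
    congr 1
    field_simp
  have h0 := LinearMap.IsIdempotentElem.eq_zero_of_trace_eq_zero hidem (by
    rw [Matrix.trace_toLin'_eq, hE, Matrix.trace_smul, trace_opFun, h, mul_zero, smul_zero])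
  rw [LinearEquiv.map_eq_zero_iff, hE, smul_eq_zero] at h0
  exact h0.resolve_left (div_ne_zero h1 hG)

open Classical in
/-- `Σ_b π(b)` over the stabiliser. -/
noncomputable def stabSum (B : Subgroup G) : Matrix (G ⧸ B) (G ⧸ B) ℂ := ∑ b : B, pm B (b : G)

theorem pm_mul_stabSum {b : G} (hb : b ∈ B) : pm B b * stabSum B = stabSum B := by
  classical
  rw [stabSum, Finset.mul_sum]
  refine Fintype.sum_equiv (Equiv.mulLeft ⟨b, hb⟩) _ _ fun c => ?_
  rw [← pm_mul]
  rfl

theorem stabSum_conjTranspose : (stabSum B)ᴴ = stabSum B := by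
  classical
  rw [stabSum, Matrix.conjTranspose_sum]
  exact Fintype.sum_equiv (Equiv.inv B) _ _ fun c => by rw [pm_conjTranspose]; rfl

theorem stabSum_mul_self : stabSum B * stabSum B = (Nat.card B : ℂ) • stabSum B := by
  classical
  conv_lhs => arg 1; rw [stabSum]
  rw [Finset.sum_mul, Finset.sum_congr rfl fun c _ => pm_mul_stabSum c.2, Finset.sum_const,
    Finset.card_univ, ← Nat.card_eq_fintype_card, Nat.cast_smul_eq_nsmul]

open Classical in
theorem stabSum_smul_base (v : G ⧸ B → ℂ) :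
    (stabSum B *ᵥ v) ((1 : G) : G ⧸ B) = (Nat.card B : ℂ) * v ((1 : G) : G ⧸ B) := by
  have h : ∀ (b : B) (y : G ⧸ B), ((1 : G) : G ⧸ B) = (b : G) • y ↔ y = ((1 : G) : G ⧸ B) := by
    intro b y
    rw [eq_comm, ← eq_inv_smul_iff, MulAction.Quotient.smul_mk, smul_eq_mul, mul_one]
    rw [(QuotientGroup.eq (s := B)).2 (show ((b : G)⁻¹)⁻¹ * 1 ∈ B by simp)]
  simp only [stabSum, Matrix.mulVec, dotProduct, Matrix.sum_apply, pm, Matrix.of_apply,
    Finset.sum_mul, ite_mul, one_mul, zero_mul]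
  rw [Finset.sum_comm]
  simp [h, Nat.card_eq_fintype_card]

variable (B)

/-- The span of the operators of the constituents. -/
noncomputable def constSpan : Submodule ℂ (Matrix (G ⧸ B) (G ⧸ B) ℂ) :=
  Submodule.span ℂ (Set.range fun χ : {χ : Cfsg.IrrCharacter G //
    Cfsg.classInner (Cfsg.fixedPointCharacter B) χ ≠ 0} => opFun B (χ.1 : G → ℂ))

/-- `Σ_h π(h) (Σ_b π(b)) π(h)⁻¹`. -/
noncomputable def avgStab : Matrix (G ⧸ B) (G ⧸ B) ℂ := ∑ h : G, pm B h * stabSum B * pm B h⁻¹

variable {B}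

theorem opFun_mem_constSpan {f : G → ℂ} (hf : Cfsg.IsClassFunction G f) :
    opFun B f ∈ constSpan B := by
  classical
  rw [classFunction_expand hf, map_sum]
  refine sum_mem fun χ _ => ?_
  rw [map_smul]
  refine (constSpan B).smul_mem _ ?_
  by_cases h : Cfsg.classInner (Cfsg.fixedPointCharacter B) χ = 0
  · rw [opFun_eq_zero h]; exact zero_mem _
  · exact Submodule.subset_span ⟨⟨χ, h⟩, rfl⟩

theorem conjSum_mem (a : G) : (∑ h : G, pm B (h * a * h⁻¹)) ∈ constSpan B := by
  classical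
  have e : (∑ h : G, pm B (h * a * h⁻¹)) =
      opFun B (fun g => ((Finset.univ.filter fun h : G => h * a * h⁻¹ = g⁻¹).card : ℂ)) := by
    show _ = ∑ g : G, _ • pm B g
    simp only [inv_inv, ← Finset.sum_boole, Finset.sum_smul, ite_smul, one_smul, zero_smul]
    rw [Finset.sum_comm]
    simp
  rw [e]
  refine opFun_mem_constSpan fun g k => ?_
  congr 1
  refine Finset.card_bij' (fun h _ => k⁻¹ * h) (fun h _ => k * h) ?_ ?_ (by simp) (by simp)
  · intro h hh
    simp only [Finset.mem_filter, Finset.mem_univ, true_and] at hh ⊢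
    rw [show k⁻¹ * h * a * (k⁻¹ * h)⁻¹ = k⁻¹ * (h * a * h⁻¹) * k by group, hh]
    group
  · intro h hh
    simp only [Finset.mem_filter, Finset.mem_univ, true_and] at hh ⊢
    rw [show k * h * a * (k * h)⁻¹ = k * (h * a * h⁻¹) * k⁻¹ by group, hh]
    group

theorem inv_avgStab : Inv B (avgStab B) := by
  intro g
  rw [avgStab, Commute, SemiconjBy, Finset.mul_sum, Finset.sum_mul]
  refine Fintype.sum_equiv (Equiv.mulLeft g) _ _ fun h => ?_
  rw [Equiv.coe_mulLeft, _root_.mul_inv_rev, pm_mul h⁻¹ g⁻¹, pm_mul g h]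
  simp only [mul_assoc]
  classical
    rw [← pm_mul g⁻¹ g, inv_mul_cancel, pm_one, mul_one]

theorem commute_avgStab {N : Matrix (G ⧸ B) (G ⧸ B) ℂ} (hN : Inv B N) : Commute N (avgStab B) :=
  by
  classical
  have h1 : Commute N (stabSum B) := by
    rw [stabSum]
    exact Commute.sum_right _ _ _ fun b _ => (hN (b : G)).symm
  rw [avgStab]
  exact Commute.sum_right _ _ _ fun h _ =>
    ((hN h).symm.mul_right h1).mul_right (hN h⁻¹).symm

theorem smul_term (h : G) : (Nat.card B : ℂ) • (pm B h * stabSum B * pm B h⁻¹) =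
    (pm B h * stabSum B) * (pm B h * stabSum B)ᴴ := by
  rw [Matrix.conjTranspose_mul, stabSum_conjTranspose, pm_conjTranspose, mul_assoc (pm B h),
    mul_assoc (pm B h) (stabSum B) (stabSum B * _), ← mul_assoc (stabSum B) (stabSum B),
    stabSum_mul_self, smul_mul_assoc, mul_smul_comm]

open Classical in
theorem isUnit_avgStab : IsUnit (avgStab B).det := by
  classical
  rw [← Matrix.isUnit_iff_isUnit_det, ← Matrix.mulVec_injective_iff_isUnit]
  refine (injective_iff_map_eq_zero (avgStab B).mulVecLin).2 fun v hv => ?_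
  change avgStab B *ᵥ v = 0 at hv
  have h0 : ∑ h : G, star ((pm B h * stabSum B)ᴴ *ᵥ v) ⬝ᵥ ((pm B h * stabSum B)ᴴ *ᵥ v) = 0 := by
    simp only [Matrix.star_mulVec, Matrix.conjTranspose_conjTranspose, ← Matrix.dotProduct_mulVec,
      Matrix.mulVec_mulVec, ← smul_term]
    rw [← dotProduct_sum, ← Matrix.sum_mulVec, ← Finset.smul_sum, ← avgStab, Matrix.smul_mulVec, hv,
      smul_zero, dotProduct_zero]
  open scoped ComplexOrder in
  have h1 := (Finset.sum_eq_zero_iff_of_nonneg fun h _ => dotProduct_star_self_nonneg _).1 h0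
  funext x
  obtain ⟨h, rfl⟩ := QuotientGroup.mk_surjective x
  open scoped ComplexOrder in
  have h2 := congrFun (dotProduct_star_self_eq_zero.1 (h1 h (Finset.mem_univ _))) ((1 : G) : G ⧸ B)
  rw [Matrix.conjTranspose_mul, stabSum_conjTranspose, pm_conjTranspose, ← Matrix.mulVec_mulVec,
    stabSum_smul_base, Pi.zero_apply, mul_eq_zero] at h2
  have h3 := h2.resolve_left (by exact_mod_cast Nat.card_pos.ne')
  simpa [Matrix.mulVec, dotProduct, pm, eq_inv_smul_iff, smul_eq_mul] using h3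

theorem stabSum_inv_smul {b : G} (hb : b ∈ B) (a w : G ⧸ B) :
    stabSum B (b⁻¹ • a) w = stabSum B a w := by
  have h := congrFun (congrFun (pm_mul_stabSum hb) a) w
  rwa [pm_mul_apply] at h

theorem mul_stabSum_eq {y : Matrix (G ⧸ B) (G ⧸ B) ℂ} (hy : y ∈ commCentre B) :
    (∑ x : G ⧸ B, y x ((1 : G) : G ⧸ B) • pm B x.out) * stabSum B = y * stabSum B := by
  classical
  refine Matrix.ext fun u w => ?_
  set T : Matrix (G ⧸ B) (G ⧸ B) ℂ := Matrix.of fun a v => stabSum B (v.out⁻¹ • a) w with hT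
  have hTinv : Inv B T := by
    refine inv_iff.2 fun g a v => ?_
    have hmem : v.out⁻¹ * g⁻¹ * (g • v).out ∈ B := by
      rw [show v.out⁻¹ * g⁻¹ * (g • v).out = (g * v.out)⁻¹ * (g • v).out by group,
        ← QuotientGroup.eq, QuotientGroup.out_eq']
      rw [← smul_eq_mul, ← MulAction.Quotient.smul_mk, QuotientGroup.out_eq']
    simp only [hT, Matrix.of_apply]
    rw [← stabSum_inv_smul hmem (v.out⁻¹ • a), smul_smul, smul_smul]
    congr 1
    group
  have hout : ((1 : G) : G ⧸ B).out ∈ B := by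
    have := QuotientGroup.out_eq' ((1 : G) : G ⧸ B)
    rw [QuotientGroup.eq] at this
    simpa using this
  have h := congrFun (congrFun (hy.2 T hTinv).eq u) ((1 : G) : G ⧸ B)
  rw [Matrix.mul_apply, Matrix.mul_apply] at h
  rw [Matrix.sum_mul, Matrix.sum_apply, Matrix.mul_apply]
  calc ∑ v, ((y v ((1 : G) : G ⧸ B) • pm B v.out) * stabSum B) u w
      = ∑ v, T u v * y v ((1 : G) : G ⧸ B) := by
        refine Finset.sum_congr rfl fun v _ => ?_
        rw [smul_mul_assoc, Matrix.smul_apply, pm_mul_apply, smul_eq_mul, mul_comm]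
        rfl
    _ = ∑ v, y u v * T v ((1 : G) : G ⧸ B) := h
    _ = ∑ v, y u v * stabSum B v w := by
        refine Finset.sum_congr rfl fun v _ => ?_
        simp only [hT, Matrix.of_apply]
        rw [stabSum_inv_smul hout]

theorem mul_avgStab_mem {y : Matrix (G ⧸ B) (G ⧸ B) ℂ} (hy : y ∈ commCentre B) :
    y * avgStab B ∈ constSpan B := by
  have e : y * avgStab B = ∑ x : G ⧸ B, y x ((1 : G) : G ⧸ B) •
      ∑ b : B, ∑ h : G, pm B (h * (x.out * b) * h⁻¹) := by
    calc y * avgStab B = ∑ h : G, pm B h *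
          ((∑ x : G ⧸ B, y x ((1 : G) : G ⧸ B) • pm B x.out) * stabSum B) * pm B h⁻¹ := by
          rw [mul_stabSum_eq hy, avgStab, Finset.mul_sum]
          refine Finset.sum_congr rfl fun h _ => ?_
          rw [← mul_assoc (pm B h) y, (hy.1 h).eq]
          simp only [mul_assoc]
      _ = _ := by
          simp only [stabSum, Finset.sum_mul, Finset.mul_sum, mul_smul_comm, smul_mul_assoc,
            Finset.smul_sum, pm_mul, mul_assoc]
          rw [Finset.sum_comm]
          conv_lhs => arg 2; ext x; rw [Finset.sum_comm]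
          rw [Finset.sum_comm]
  rw [e]
  exact sum_mem fun x _ => Submodule.smul_mem _ _ (sum_mem fun b _ => conjSum_mem _)

open Classical in
theorem commCentre_le : commCentre B ≤ constSpan B := by
  intro y hy
  have hu := isUnit_avgStab (B := B)
  have hci : ∀ N, Commute N (avgStab B) → Commute N (avgStab B)⁻¹ := fun N h => by
    calc N * (avgStab B)⁻¹ = (avgStab B)⁻¹ * (avgStab B * N) * (avgStab B)⁻¹ := by
          rw [Matrix.nonsing_inv_mul_cancel_left _ _ hu]
      _ = (avgStab B)⁻¹ * N := by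
          rw [← h.eq, mul_assoc, Matrix.mul_nonsing_inv_cancel_right _ _ hu]
  have hinv : y * (avgStab B)⁻¹ ∈ commCentre B :=
    ⟨fun g => (hy.1 g).mul_right (hci _ (inv_avgStab g)),
      fun N hN => (hy.2 N hN).mul_right (hci _ (commute_avgStab hN))⟩
  have := mul_avgStab_mem hinv
  rwa [mul_assoc, Matrix.nonsing_inv_mul _ hu, mul_one] at this

/-- The dimension of the centre of the commutant counts the constituents. -/
theorem finrank_commCentre :
    Module.finrank ℂ (commCentre B) = Nat.card {χ : Cfsg.IrrCharacter G //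
      ∃ φ : G → ℂ, Cfsg.IsCharacter G φ ∧ Cfsg.fixedPointCharacter B = (χ : G → ℂ) + φ} := by
  classical
  have hπ : Cfsg.IsCharacter G (Cfsg.fixedPointCharacter B) := isCharacter_permChar (G ⧸ B)
  have hiff : ∀ χ : Cfsg.IrrCharacter G,
      (∃ φ : G → ℂ, Cfsg.IsCharacter G φ ∧ Cfsg.fixedPointCharacter B = (χ : G → ℂ) + φ) ↔
        Cfsg.classInner (Cfsg.fixedPointCharacter B) χ ≠ 0 := by
    intro χ
    constructor
    · rintro ⟨φ, hφ, e⟩
      obtain ⟨m, hm⟩ := IsCharacter.exists_mult hφ χ.2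
      rw [e, classInner_add_left, classInner_irr_self, hm]
      exact_mod_cast (Nat.succ_ne_zero m) ∘ (by intro h; omega)
    · intro h
      refine ⟨Cfsg.fixedPointCharacter B - (χ : G → ℂ), ?_, (add_sub_cancel _ _).symm⟩
      refine isCharacter_of_coeff (fun g k => ?_) fun ψ => ?_
      · simp only [Pi.sub_apply]
        rw [isClassFunction_isChar hπ g k, isClassFunction_irr χ g k]
      obtain ⟨m, hm⟩ := IsCharacter.exists_mult hπ ψ.2
      rw [classInner_sub_left, classInner_irrCharacter, hm]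
      split_ifs with e
      · subst e
        rw [hm] at h
        exact ⟨m - 1, by rw [Nat.cast_sub (Nat.pos_of_ne_zero (by exact_mod_cast h)), Nat.cast_one]⟩
      · exact ⟨m, sub_zero _⟩
  rw [Nat.card_congr (Equiv.subtypeEquivRight hiff), Nat.card_eq_fintype_card]
  have hli : LinearIndependent ℂ (fun χ : {χ : Cfsg.IrrCharacter G //
      Cfsg.classInner (Cfsg.fixedPointCharacter B) χ ≠ 0} => opFun B (χ.1 : G → ℂ)) := by
    rw [Fintype.linearIndependent_iff]
    intro g hg χ
    have h := congrArg (fun M => M * opFun B (χ.1 : G → ℂ)) hg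
    simp only [Finset.sum_mul, smul_mul_assoc, zero_mul, opFun_mul_opFun, ← Subtype.ext_iff,
      ite_smul, zero_smul, smul_ite, smul_zero, Finset.sum_ite_eq', Finset.mem_univ, if_true] at h
    have h2 := congrArg Matrix.trace h
    simp only [Matrix.trace_smul, trace_opFun, Matrix.trace_zero, smul_eq_mul, mul_eq_zero] at h2
    have hG : (Nat.card G : ℂ) ≠ 0 := by exact_mod_cast Nat.card_pos.ne'
    have hd : (Nat.card G : ℂ) / (χ.1 : G → ℂ) 1 ≠ 0 :=
      div_ne_zero hG (IsIrrCharacter.apply_one_ne_zero χ.1.2)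
    simpa [hG, hd, IsIrrCharacter.apply_one_ne_zero χ.1.2, χ.2] using h2
  rw [← finrank_span_eq_card hli]
  refine congrArg (fun S : Submodule ℂ _ => Module.finrank ℂ S) (le_antisymm commCentre_le ?_)
  rw [Submodule.span_le]
  rintro _ ⟨χ, rfl⟩
  exact opFun_mem (isClassFunction_irr χ.1)

end Cfsg.Lib.Hecke
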