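import Cfsg.Agent.Known.Hecke.Deform
import Cfsg.Agent.Known.Hecke.PermCenter

/-!
# The commutant of the action on `G ⧸ B` as a Hecke algebra
-/

set_option autoImplicit false

open Matrix

namespace Cfsg.Lib.Hecke

attribute [local instance high] Fintype.ofFinite

/-- Double cosets of `B` labelled by `W`, with the multiplication rules of a (B,N)-pair. -/
structure DCData {G : Type*} [Group G] (B : Subgroup G) {W : Type*} [Group W] {I : Type*}
    (S : Sys W I) (q : ℕ) where
  /-- the label of the double coset -/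
  cls : G → W
  cls_surj : Function.Surjective cls
  cls_eq : ∀ g h, cls g = cls h ↔ ∃ b ∈ B, ∃ b' ∈ B, h = b * g * b'
  cls_one : cls 1 = 1
  cls_inv : ∀ g, cls g⁻¹ = (cls g)⁻¹
  up : ∀ i g h, cls g = S.s i → ¬ S.down i (cls h) → cls (g * h) = S.s i * cls h
  quad : ∀ i g h, cls g = S.s i → cls h = S.s i → cls (g * h) = 1 ∨ cls (g * h) = S.s i
  card_cell : ∀ i, Nat.card {y : G ⧸ B // cls y.out = S.s i} = q

namespace DCData

variable {G : Type*} [Group G] {B : Subgroup G} {W : Type*} [Group W] {I : Type*}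
  {S : Sys W I} {q : ℕ} (P : DCData B S q)

theorem cls_mul_left {b : G} (hb : b ∈ B) (g : G) : P.cls (b * g) = P.cls g :=
  ((P.cls_eq g (b * g)).2 ⟨b, hb, 1, one_mem _, by rw [mul_one]⟩).symm

theorem cls_mul_right {b : G} (hb : b ∈ B) (g : G) : P.cls (g * b) = P.cls g :=
  ((P.cls_eq g (g * b)).2 ⟨1, one_mem _, b, hb, by rw [one_mul]⟩).symm

theorem cls_eq_one {g : G} : P.cls g = 1 ↔ g ∈ B := by
  refine ⟨fun h => ?_, fun h => by rw [← mul_one g, P.cls_mul_left h, P.cls_one]⟩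
  obtain ⟨b, hb, b', hb', e⟩ := (P.cls_eq 1 g).1 (by rw [h, P.cls_one])
  rw [e]
  simpa using mul_mem hb hb'

open Classical in
/-- The matrix of a double coset. -/
noncomputable def A (w : W) : Matrix (G ⧸ B) (G ⧸ B) ℂ :=
  Matrix.of fun x z => if P.cls (x.out⁻¹ * z.out) = w then 1 else 0

theorem cls_out_mk (g h : G) :
    P.cls ((g : G ⧸ B).out⁻¹ * (h : G ⧸ B).out) = P.cls (g⁻¹ * h) := by
  obtain ⟨⟨a, ha⟩, ea⟩ := QuotientGroup.mk_out_eq_mul B g
  obtain ⟨⟨b, hb⟩, eb⟩ := QuotientGroup.mk_out_eq_mul B h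
  rw [ea, eb, show (g * a)⁻¹ * (h * b) = a⁻¹ * (g⁻¹ * h * b) by group,
    P.cls_mul_left (inv_mem ha), P.cls_mul_right hb]

variable [Finite G] [Fintype W]

open Classical in
theorem A_apply (w : W) (g h : G) :
    P.A w (g : G ⧸ B) (h : G ⧸ B) = if P.cls (g⁻¹ * h) = w then 1 else 0 := by
  simp [A, P.cls_out_mk]

theorem inv_A (w : W) : Inv B (P.A w) := by
  refine inv_iff.2 fun g x z => ?_
  obtain ⟨a, rfl⟩ := QuotientGroup.mk_surjective x
  obtain ⟨b, rfl⟩ := QuotientGroup.mk_surjective z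
  rw [MulAction.Quotient.smul_mk, MulAction.Quotient.smul_mk, P.A_apply, P.A_apply]
  rw [smul_eq_mul, smul_eq_mul, show (g * a)⁻¹ * (g * b) = a⁻¹ * b by group]

open Classical in
theorem A_one : P.A 1 = 1 := by
  refine Matrix.ext fun x z => ?_
  obtain ⟨a, rfl⟩ := QuotientGroup.mk_surjective x
  obtain ⟨b, rfl⟩ := QuotientGroup.mk_surjective z
  rw [P.A_apply, Matrix.one_apply]
  exact if_congr (by rw [P.cls_eq_one, ← QuotientGroup.eq]) rfl rfl

theorem cls_inv_eq_s {i : I} {g : G} (h : P.cls g = S.s i) : P.cls g⁻¹ = S.s i := by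
  rw [P.cls_inv, h, S.inv_s]

open Classical in
theorem A_mul_A_up {i : I} {w : W} (hd : ¬ S.down i w) :
    P.A (S.s i) * P.A w = P.A (S.s i * w) := by
  refine Matrix.ext fun x z => ?_
  obtain ⟨a, rfl⟩ := QuotientGroup.mk_surjective x
  obtain ⟨c, rfl⟩ := QuotientGroup.mk_surjective z
  rw [Matrix.mul_apply, P.A_apply]
  by_cases h : P.cls (a⁻¹ * c) = S.s i * w
  · rw [if_pos h]
    obtain ⟨s₀, hs₀⟩ := P.cls_surj (S.s i)
    obtain ⟨w₀, hw₀⟩ := P.cls_surj w
    have hsw : P.cls (s₀ * w₀) = S.s i * w := by rw [P.up i s₀ w₀ hs₀ (by rwa [hw₀]), hw₀]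
    obtain ⟨b, hb, b', hb', e⟩ := (P.cls_eq _ _).1 (hsw.trans h.symm)
    rw [Finset.sum_eq_single ((a * b * s₀ : G) : G ⧸ B)]
    · rw [P.A_apply, P.A_apply, if_pos, if_pos, one_mul]
      · rw [show (a * b * s₀)⁻¹ * c = s₀⁻¹ * b⁻¹ * (a⁻¹ * c) by group, e,
          show s₀⁻¹ * b⁻¹ * (b * (s₀ * w₀) * b') = w₀ * b' by group, P.cls_mul_right hb', hw₀]
      · rw [show a⁻¹ * (a * b * s₀) = b * s₀ by group, P.cls_mul_left hb, hs₀]
    · intro y _ hy
      obtain ⟨y, rfl⟩ := QuotientGroup.mk_surjective y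
      rw [P.A_apply, P.A_apply]
      split_ifs with h1 h2 <;> simp
      exfalso
      set y₁ := a * b * s₀ with hy₁
      have e1 : P.cls (a⁻¹ * y₁) = S.s i := by
        rw [hy₁, show a⁻¹ * (a * b * s₀) = b * s₀ by group, P.cls_mul_left hb, hs₀]
      have e2 : P.cls (y₁⁻¹ * c) = w := by
        rw [hy₁, show (a * b * s₀)⁻¹ * c = s₀⁻¹ * b⁻¹ * (a⁻¹ * c) by group, e,
          show s₀⁻¹ * b⁻¹ * (b * (s₀ * w₀) * b') = w₀ * b' by group, P.cls_mul_right hb', hw₀]
      rcases P.quad i (y⁻¹ * a) (a⁻¹ * y₁)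
        (by rw [show y⁻¹ * a = (a⁻¹ * y)⁻¹ by group, P.cls_inv_eq_s h1]) e1 with hc | hc <;>
        rw [show y⁻¹ * a * (a⁻¹ * y₁) = y⁻¹ * y₁ by group] at hc
      · exact hy (QuotientGroup.eq.2 (P.cls_eq_one.1 hc))
      · have h4 := P.up i (y⁻¹ * y₁) (y₁⁻¹ * c) hc (by rwa [e2])
        rw [show y⁻¹ * y₁ * (y₁⁻¹ * c) = y⁻¹ * c by group, h2, e2] at h4
        exact S.s_ne_one i (mul_eq_right.1 h4.symm)
    · intro h'
      exact absurd (Finset.mem_univ _) h'
  · rw [if_neg h]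
    refine Finset.sum_eq_zero fun y _ => ?_
    obtain ⟨y, rfl⟩ := QuotientGroup.mk_surjective y
    rw [P.A_apply, P.A_apply]
    split_ifs with h1 h2 <;> simp
    exfalso
    have h3 := P.up i (a⁻¹ * y) (y⁻¹ * c) h1 (by rwa [h2])
    rw [show a⁻¹ * y * (y⁻¹ * c) = a⁻¹ * c by group, h2] at h3
    exact h h3

/-- The row sums of `A w`. -/
noncomputable def rowCard (w : W) : ℕ := Nat.card {y : G ⧸ B // P.cls y.out = w}

open Classical in
theorem rowCard_eq (w : W) (x : G ⧸ B) : (∑ z, P.A w x z) = (P.rowCard w : ℂ) := by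
  obtain ⟨g, rfl⟩ := QuotientGroup.mk_surjective x
  rw [rowCard, Nat.card_eq_fintype_card, Fintype.card_subtype, ← Finset.sum_boole]
  refine Fintype.sum_equiv (MulAction.toPerm g⁻¹) _ _ fun z => ?_
  obtain ⟨c, rfl⟩ := QuotientGroup.mk_surjective z
  rw [P.A_apply, MulAction.toPerm_apply, MulAction.Quotient.smul_mk, smul_eq_mul]
  obtain ⟨⟨b, hb⟩, e⟩ := QuotientGroup.mk_out_eq_mul B (g⁻¹ * c)
  rw [e, P.cls_mul_right hb]

theorem rowCard_pos (w : W) : 0 < P.rowCard w := by
  obtain ⟨g, hg⟩ := P.cls_surj w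
  have : Nonempty {y : G ⧸ B // P.cls y.out = w} := by
    refine ⟨⟨(g : G ⧸ B), ?_⟩⟩
    obtain ⟨⟨b, hb⟩, e⟩ := QuotientGroup.mk_out_eq_mul B g
    rw [e, P.cls_mul_right hb, hg]
  exact Nat.card_pos

theorem rowCard_s (i : I) : P.rowCard (S.s i) = q := P.card_cell i

theorem rowCard_one : P.rowCard 1 = 1 := by
  classical
  have h := P.rowCard_eq 1 ((1 : G) : G ⧸ B)
  simp [P.A_one, Matrix.one_apply] at h
  exact_mod_cast h.symm

theorem rowCard_up {i : I} {w : W} (hd : ¬ S.down i w) :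
    P.rowCard (S.s i * w) = q * P.rowCard w := by
  classical
  have h := P.rowCard_eq (S.s i * w) ((1 : G) : G ⧸ B)
  rw [← P.A_mul_A_up hd] at h
  simp only [Matrix.mul_apply] at h
  rw [Finset.sum_comm] at h
  simp only [← Finset.mul_sum, P.rowCard_eq, ← Finset.sum_mul, P.rowCard_s] at h
  exact_mod_cast h.symm

open Classical in
theorem A_sq (i : I) :
    P.A (S.s i) * P.A (S.s i) = ((q : ℂ) - 1) • P.A (S.s i) + (q : ℂ) • 1 := by
  refine Matrix.ext fun x z => ?_
  obtain ⟨a, rfl⟩ := QuotientGroup.mk_surjective x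
  obtain ⟨c, rfl⟩ := QuotientGroup.mk_surjective z
  rw [Matrix.mul_apply, Matrix.add_apply, Matrix.smul_apply, Matrix.smul_apply, P.A_apply,
    Matrix.one_apply, smul_eq_mul, smul_eq_mul]
  have hsum := P.rowCard_eq (S.s i) (a : G ⧸ B)
  rw [P.rowCard_s] at hsum
  by_cases h1 : P.cls (a⁻¹ * c) = 1
  · rw [if_pos (QuotientGroup.eq.2 (P.cls_eq_one.1 h1)),
      if_neg (by rw [h1]; exact (S.s_ne_one i).symm), mul_zero, zero_add, mul_one, ← hsum]
    refine Finset.sum_congr rfl fun y _ => ?_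
    obtain ⟨y, rfl⟩ := QuotientGroup.mk_surjective y
    rw [P.A_apply, P.A_apply]
    split_ifs with h2 h3 <;> simp
    exfalso
    apply h3
    rw [show y⁻¹ * c = (a⁻¹ * y)⁻¹ * (a⁻¹ * c) by group,
      P.cls_mul_right (P.cls_eq_one.1 h1), P.cls_inv_eq_s h2]
  · rw [if_neg (c := (a : G ⧸ B) = c) (fun h => h1 (P.cls_eq_one.2 (QuotientGroup.eq.1 h))),
      mul_zero, add_zero]
    by_cases h2 : P.cls (a⁻¹ * c) = S.s i
    · rw [if_pos h2, mul_one, ← hsum, ← Finset.add_sum_erase _ _ (Finset.mem_univ (c : G ⧸ B)),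
        ← Finset.add_sum_erase _ (fun z => P.A (S.s i) (a : G ⧸ B) z)
          (Finset.mem_univ (c : G ⧸ B)),
        P.A_apply, P.A_apply, if_pos h2, if_neg, mul_zero, zero_add, add_sub_cancel_left]
      · refine Finset.sum_congr rfl fun y hy => ?_
        obtain ⟨y, rfl⟩ := QuotientGroup.mk_surjective y
        rw [P.A_apply, P.A_apply]
        split_ifs with h3 h4 <;> simp
        exfalso
        rcases P.quad i (y⁻¹ * a) (a⁻¹ * c)
          (by rw [show y⁻¹ * a = (a⁻¹ * y)⁻¹ by group, P.cls_inv_eq_s h3]) h2 with hc | hc <;>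
          rw [show y⁻¹ * a * (a⁻¹ * c) = y⁻¹ * c by group] at hc
        · exact (Finset.mem_erase.1 hy).1 (QuotientGroup.eq.2 (P.cls_eq_one.1 hc))
        · exact h4 hc
      · rw [inv_mul_cancel, P.cls_one]
        exact (S.s_ne_one i).symm
    · rw [if_neg h2, mul_zero]
      refine Finset.sum_eq_zero fun y _ => ?_
      obtain ⟨y, rfl⟩ := QuotientGroup.mk_surjective y
      rw [P.A_apply, P.A_apply]
      split_ifs with h3 h4 <;> simp
      exfalso
      rcases P.quad i (a⁻¹ * y) (y⁻¹ * c) h3 h4 with hc | hc <;>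
        rw [show a⁻¹ * y * (y⁻¹ * c) = a⁻¹ * c by group] at hc
      · exact h1 hc
      · exact h2 hc

/-- The normalised matrix of a double coset. -/
noncomputable def hat (w : W) : Matrix (G ⧸ B) (G ⧸ B) ℂ :=
  ((Real.sqrt (P.rowCard w) : ℝ) : ℂ)⁻¹ • P.A w

theorem sqrt_rowCard_ne (w : W) : ((Real.sqrt (P.rowCard w) : ℝ) : ℂ) ≠ 0 := by
  have := P.rowCard_pos w
  exact_mod_cast (Real.sqrt_pos.2 (by exact_mod_cast this)).ne'

theorem sqrt_rowCard_up {i : I} {w : W} (hd : ¬ S.down i w) :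
    ((Real.sqrt (P.rowCard (S.s i * w)) : ℝ) : ℂ) =
      ((Real.sqrt q : ℝ) : ℂ) * ((Real.sqrt (P.rowCard w) : ℝ) : ℂ) := by
  rw [P.rowCard_up hd, Nat.cast_mul, Real.sqrt_mul (Nat.cast_nonneg q), Complex.ofReal_mul]

include P in
theorem q_pos (i : I) : 0 < q := P.rowCard_s i ▸ P.rowCard_pos (S.s i)

/-- The image of a generator. -/
noncomputable def T (i : I) : Matrix (G ⧸ B) (G ⧸ B) ℂ := P.A (S.s i)

open Classical in
theorem T_mul_hat (i : I) (w : W) :
    P.T i * P.hat w = ((Real.sqrt q : ℝ) : ℂ) • P.hat (S.s i * w) +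
      S.dg (Real.sqrt q) i w • P.hat w := by
  have hq : ((Real.sqrt q : ℝ) : ℂ) ^ 2 = (q : ℂ) := by
    rw [← Complex.ofReal_pow, Real.sq_sqrt (Nat.cast_nonneg q), Complex.ofReal_natCast]
  have hq0 : ((Real.sqrt q : ℝ) : ℂ) ≠ 0 := by
    have := P.q_pos i
    exact_mod_cast (Real.sqrt_pos.2 (by exact_mod_cast this)).ne'
  simp only [T, hat, Sys.dg, mul_smul_comm, smul_smul]
  by_cases hd : S.down i w
  · obtain ⟨u, rfl⟩ : ∃ u, w = S.s i * u := ⟨S.s i * w, (S.s_mul_s_mul i w).symm⟩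
    have hu : ¬ S.down i u := (S.flip i u).1 hd
    have h := P.sqrt_rowCard_ne u
    rw [if_pos hd, S.s_mul_s_mul, ← P.A_mul_A_up hu, ← mul_assoc, P.A_sq, add_mul, smul_mul_assoc,
      smul_mul_assoc, one_mul, P.A_mul_A_up hu, P.sqrt_rowCard_up hu, hq, smul_add, smul_smul,
      smul_smul, add_comm]
    congr 2
    · field_simp
      rw [hq]
    · ring
  · have h := P.sqrt_rowCard_ne w
    rw [if_neg hd, zero_mul, zero_smul, add_zero, P.A_mul_A_up hd, P.sqrt_rowCard_up hd]
    congr 1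
    field_simp

/-- The map from functions on `W` to the commutant. -/
noncomputable def theta : (W → ℂ) →ₗ[ℂ] Matrix (G ⧸ B) (G ⧸ B) ℂ where
  toFun x := ∑ w, x w • P.hat w
  map_add' x y := by simp [add_smul, Finset.sum_add_distrib]
  map_smul' c x := by simp [Finset.smul_sum, mul_smul]

theorem inv_theta (x : W → ℂ) : Inv B (P.theta x) := fun g =>
  Commute.sum_right _ _ _ fun w _ => (((P.inv_A w g).smul_right _).smul_right _)

open Classical in
theorem A_eval (w : W) {g : G} : P.A w ((1 : G) : G ⧸ B) (g : G ⧸ B) =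
    if P.cls g = w then 1 else 0 := by
  rw [P.A_apply, inv_one, one_mul]

open Classical in
theorem theta_apply (x : W → ℂ) (g : G) : P.theta x ((1 : G) : G ⧸ B) (g : G ⧸ B) =
    x (P.cls g) * ((Real.sqrt (P.rowCard (P.cls g)) : ℝ) : ℂ)⁻¹ := by
  simp [theta, hat, Matrix.sum_apply, P.A_eval]

theorem theta_injective : Function.Injective P.theta := by
  refine (injective_iff_map_eq_zero _).2 fun x hx => ?_
  funext w
  obtain ⟨g, rfl⟩ := P.cls_surj w
  have h := P.theta_apply x g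
  rw [hx, Matrix.zero_apply] at h
  exact (mul_eq_zero.1 h.symm).resolve_right (inv_ne_zero (P.sqrt_rowCard_ne _))

theorem exists_theta {M : Matrix (G ⧸ B) (G ⧸ B) ℂ} (hM : Inv B M) : ∃ x, P.theta x = M := by
  classical
  choose g hg using P.cls_surj
  set x : W → ℂ := fun w => ((Real.sqrt (P.rowCard w) : ℝ) : ℂ) *
    M ((1 : G) : G ⧸ B) (g w : G ⧸ B) with hx
  refine ⟨x, ?_⟩
  have key : ∀ c : G, P.theta x ((1 : G) : G ⧸ B) (c : G ⧸ B) =
      M ((1 : G) : G ⧸ B) (c : G ⧸ B) := by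
    intro c
    rw [P.theta_apply, hx]
    obtain ⟨b, hb, b', hb', e⟩ := (P.cls_eq (g (P.cls c)) c).1 (hg _)
    simp only
    rw [mul_comm, inv_mul_cancel_left₀ (P.sqrt_rowCard_ne _)]
    conv_rhs => rw [e]
    rw [QuotientGroup.mk_mul_of_mem _ hb', ← smul_eq_mul, ← MulAction.Quotient.smul_mk]
    have hb1 : b • ((1 : G) : G ⧸ B) = ((1 : G) : G ⧸ B) := by
      rw [MulAction.Quotient.smul_mk, smul_eq_mul, mul_one, QuotientGroup.eq]
      simpa using hb
    conv_rhs => rw [← hb1]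
    rw [inv_iff.1 hM]
  refine Matrix.ext fun u v => ?_
  obtain ⟨a, rfl⟩ := QuotientGroup.mk_surjective u
  obtain ⟨c, rfl⟩ := QuotientGroup.mk_surjective v
  have e1 : (a : G ⧸ B) = a • ((1 : G) : G ⧸ B) := by
    rw [MulAction.Quotient.smul_mk, smul_eq_mul, mul_one]
  have e2 : (c : G ⧸ B) = a • ((a⁻¹ * c : G) : G ⧸ B) := by
    rw [MulAction.Quotient.smul_mk, smul_eq_mul, mul_inv_cancel_left]
  rw [e1, e2, inv_iff.1 (P.inv_theta x), inv_iff.1 hM, key]

variable [DecidableEq W]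

theorem theta_single (w : W) : P.theta (Pi.single w 1) = P.hat w := by
  simp [theta, Pi.single_apply, ite_smul]

theorem theta_L_mul (i : I) (X : Matrix W W ℂ) :
    P.theta (Sys.col (S.L (Real.sqrt q) i * X)) = P.T i * P.theta (Sys.col X) := by
  show (∑ w, (S.L (Real.sqrt q) i * X) w 1 • P.hat w) = P.T i * ∑ w, X w 1 • P.hat w
  simp only [S.L_mul_apply, add_smul, Finset.sum_add_distrib, Finset.mul_sum, mul_smul_comm,
    P.T_mul_hat, smul_add, smul_smul]
  congr 1
  · refine Fintype.sum_equiv (Equiv.mulLeft (S.s i)) _ _ fun w => ?_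
    rw [Equiv.coe_mulLeft, S.s_mul_s_mul, mul_comm]
  · exact Finset.sum_congr rfl fun w _ => by rw [mul_comm]

open Classical in
theorem theta_col_one : P.theta (Sys.col (1 : Matrix W W ℂ)) = 1 := by
  have : Sys.col (1 : Matrix W W ℂ) = Pi.single (1 : W) 1 := by
    funext v
    simp [Matrix.one_apply, Pi.single_apply]
  rw [this, P.theta_single, hat, P.rowCard_one, P.A_one]
  simp

include P in
theorem r_ne (i : I) : Real.sqrt q ≠ 0 :=
  (Real.sqrt_pos.2 (by exact_mod_cast P.q_pos i)).ne'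

open Classical in
theorem theta_B_mul (w : W) (Y : Matrix W W ℂ) :
    P.theta (Sys.col (S.B (Real.sqrt q) w * Y)) =
      P.theta (Sys.col (S.B (Real.sqrt q) w)) * P.theta (Sys.col Y) := by
  induction hm : S.m w using Nat.strong_induction_on generalizing w with
  | _ k ih =>
    rw [Sys.B]
    split_ifs with h
    · rw [one_mul, P.theta_col_one, one_mul]
    · have := ih _ (hm ▸ S.m_lt _ _ (S.exists_down w h).choose_spec) _ rfl
      rw [smul_mul_assoc, mul_assoc, map_smul, map_smul, map_smul, map_smul, P.theta_L_mul,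
        P.theta_L_mul, this, smul_mul_assoc, mul_assoc]

open Classical in
theorem theta_col_L (i : I) : P.theta (Sys.col (S.L (Real.sqrt q) i)) = P.T i := by
  rw [← mul_one (S.L (Real.sqrt q) i), P.theta_L_mul, P.theta_col_one, mul_one]

open Classical in
theorem theta_mul (hr : Real.sqrt q ≠ 0) {X : Matrix W W ℂ} (hX : X ∈ S.alg (Real.sqrt q))
    (Y : Matrix W W ℂ) :
    P.theta (Sys.col (X * Y)) = P.theta (Sys.col X) * P.theta (Sys.col Y) := by
  rw [← S.elt_col hr hX, show S.elt (Real.sqrt q) (Sys.col X) =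
    ∑ w, Sys.col X w • S.B (Real.sqrt q) w from rfl]
  simp only [Finset.sum_mul, map_sum, smul_mul_assoc, map_smul, P.theta_B_mul]

include P in
open Classical in
/-- The centre of the deformation at `√q` is the centre of the commutant. -/
theorem finrank_centre (hq : 0 < q) :
    Module.finrank ℂ (S.centre (Real.sqrt q)) = Module.finrank ℂ (commCentre B) := by
  have hr : Real.sqrt q ≠ 0 := (Real.sqrt_pos.2 (by exact_mod_cast hq)).ne'
  have hmap : (S.centre (Real.sqrt q)).map P.theta = commCentre B := by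
    refine le_antisymm ?_ fun M hM => ?_
    · rintro _ ⟨x, hx, rfl⟩
      refine ⟨P.inv_theta x, fun N hN => ?_⟩
      obtain ⟨y, rfl⟩ := P.exists_theta hN
      have hT : ∀ i, Commute (P.T i) (P.theta x) := by
        intro i
        have h1 := P.theta_L_mul i (S.elt (Real.sqrt q) x)
        rw [S.col_elt hr] at h1
        rw [Commute, SemiconjBy, ← h1, (hx i).eq, P.theta_mul hr (S.elt_mem _ x), S.col_elt hr,
          P.theta_col_L]
      show Commute (∑ w, y w • P.hat w) (P.theta x)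
      refine Commute.sum_left _ _ _ fun w hw => Commute.smul_left ?_ _
      clear hw
      induction w using S.induct with
      | one =>
        rw [hat, P.A_one, P.rowCard_one]
        exact (Commute.one_left _).smul_left _
      | step i w hi ih =>
        have hnd : ¬ S.down i (S.s i * w) := fun h' => (S.flip i w).1 h' hi
        have h := P.T_mul_hat i (S.s i * w)
        rw [Sys.dg, if_neg hnd, zero_smul, add_zero, S.s_mul_s_mul] at h
        have hq0 : ((Real.sqrt q : ℝ) : ℂ) ≠ 0 := by exact_mod_cast hr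
        rw [← inv_smul_smul₀ hq0 (P.hat w), ← h]
        exact ((hT i).mul_left ih).smul_left _
    · obtain ⟨x, rfl⟩ := P.exists_theta hM.1
      refine ⟨x, fun i => ?_, rfl⟩
      have hc : Commute (P.T i) (P.theta x) := hM.2 _ (P.inv_A (S.s i))
      refine S.eq_of_col hr (mul_mem (S.L_mem _ i) (S.elt_mem _ x))
        (mul_mem (S.elt_mem _ x) (S.L_mem _ i))
        (congrFun (P.theta_injective (a₁ := Sys.col (S.L (Real.sqrt q) i * S.elt (Real.sqrt q) x))
          (a₂ := Sys.col (S.elt (Real.sqrt q) x * S.L (Real.sqrt q) i)) ?_))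
      show P.theta (Sys.col (S.L (Real.sqrt q) i * S.elt (Real.sqrt q) x)) =
        P.theta (Sys.col (S.elt (Real.sqrt q) x * S.L (Real.sqrt q) i))
      rw [P.theta_L_mul, S.col_elt hr, hc.eq, P.theta_mul hr (S.elt_mem _ x), S.col_elt hr,
        P.theta_col_L]
  rw [← hmap]
  exact (Submodule.equivMapOfInjective P.theta P.theta_injective _).finrank_eq

include P in
/-- The number of constituents of the permutation character is the class number of `W`. -/
theorem card_constituents (hq : 0 < q) :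
    Nat.card {χ : Cfsg.IrrCharacter G //
      ∃ φ : G → ℂ, Cfsg.IsCharacter G φ ∧ Cfsg.fixedPointCharacter B = (χ : G → ℂ) + φ} =
      Nat.card (ConjClasses W) := by
  rw [← finrank_commCentre, ← P.finrank_centre hq,
    S.finrank_centre_eq (Real.sqrt_pos.2 (by exact_mod_cast hq)) one_pos, S.finrank_centre_one]

end DCData

end Cfsg.Lib.Hecke
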