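import Mathlib

/-!
# A one-parameter deformation of the regular representation of a reflection group

`L r i` is the symmetric form of the left multiplication by a generator of the Hecke algebra with
parameter `r ^ 2`. The dimension of the centre is the trace of a projection which depends
continuously on `r`, so it does not depend on `r`.
-/

set_option autoImplicit false

open Matrix

namespace Cfsg.Lib.Hecke

/-- Generators of a group with a notion of descent. -/
structure Sys (W : Type*) [Group W] (I : Type*) where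
  /-- the generators -/
  s : I → W
  /-- the descents -/
  down : I → W → Prop
  /-- a measure which goes down -/
  m : W → ℕ
  mul_self : ∀ i, s i * s i = 1
  flip : ∀ i w, down i (s i * w) ↔ ¬ down i w
  m_lt : ∀ i w, down i w → m (s i * w) < m w
  exists_down : ∀ w, w ≠ 1 → ∃ i, down i w
  not_down_one : ∀ i, ¬ down i 1
  key : ∀ i j w, s i * w ≠ w * s j → (down i (w * s j) ↔ down i w)
  key_eq : ∀ i j w, s i * w = w * s j → (down i w ↔ down j w⁻¹)

namespace Sys

variable {W : Type*} [Group W] {I : Type*} (S : Sys W I)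

theorem s_mul_s_mul (i : I) (w : W) : S.s i * (S.s i * w) = w := by
  rw [← mul_assoc, S.mul_self, one_mul]

theorem mul_s_mul_s (i : I) (w : W) : w * S.s i * S.s i = w := by
  rw [mul_assoc, S.mul_self, mul_one]

theorem inv_s (i : I) : (S.s i)⁻¹ = S.s i := inv_eq_of_mul_eq_one_right (S.mul_self i)

theorem s_ne_one (i : I) : S.s i ≠ 1 := fun h => by
  have := S.flip i 1
  rw [h, one_mul] at this
  exact iff_not_self this

variable [DecidableEq W]

open Classical in
/-- The diagonal term of a generator. -/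
noncomputable def dg (r : ℝ) (i : I) (w : W) : ℂ := if S.down i w then (r : ℂ) ^ 2 - 1 else 0

open Classical in
/-- The left generator. -/
noncomputable def L (r : ℝ) (i : I) : Matrix W W ℂ :=
  Matrix.of fun v u => (if u = S.s i * v then (r : ℂ) else 0) + (if u = v then S.dg r i v else 0)

open Classical in
/-- The right generator. -/
noncomputable def R (r : ℝ) (j : I) : Matrix W W ℂ :=
  Matrix.of fun v u => (if u = v * S.s j then (r : ℂ) else 0) + (if u = v then S.dg r j v⁻¹ else 0)

variable [Fintype W]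

theorem L_mul_apply (r : ℝ) (i : I) (M : Matrix W W ℂ) (v u : W) :
    (S.L r i * M) v u = r * M (S.s i * v) u + S.dg r i v * M v u := by
  classical
  simp [Matrix.mul_apply, L, add_mul, ite_mul, Finset.sum_add_distrib]

theorem mul_L_apply (r : ℝ) (i : I) (M : Matrix W W ℂ) (v u : W) :
    (M * S.L r i) v u = r * M v (S.s i * u) + S.dg r i u * M v u := by
  classical
  have h : ∀ x, u = S.s i * x ↔ x = S.s i * u := fun x =>
    ⟨fun h => by rw [h, S.s_mul_s_mul], fun h => by rw [h, S.s_mul_s_mul]⟩
  simp only [Matrix.mul_apply, L, Matrix.of_apply, mul_add, mul_ite, mul_zero, h, eq_comm (a := u),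
    Finset.sum_add_distrib, Finset.sum_ite_eq', Finset.mem_univ, if_true]
  ring

theorem R_mul_apply (r : ℝ) (j : I) (M : Matrix W W ℂ) (v u : W) :
    (S.R r j * M) v u = r * M (v * S.s j) u + S.dg r j v⁻¹ * M v u := by
  classical
  simp [Matrix.mul_apply, R, add_mul, ite_mul, Finset.sum_add_distrib]

theorem mul_R_apply (r : ℝ) (j : I) (M : Matrix W W ℂ) (v u : W) :
    (M * S.R r j) v u = r * M v (u * S.s j) + S.dg r j u⁻¹ * M v u := by
  classical
  have h : ∀ x, u = x * S.s j ↔ x = u * S.s j := fun x =>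
    ⟨fun h => by rw [h, S.mul_s_mul_s], fun h => by rw [h, S.mul_s_mul_s]⟩
  simp only [Matrix.mul_apply, R, Matrix.of_apply, mul_add, mul_ite, mul_zero, h, eq_comm (a := u),
    Finset.sum_add_distrib, Finset.sum_ite_eq', Finset.mem_univ, if_true]
  ring

omit [Fintype W] in
theorem dg_swap {r : ℝ} {i j : I} {v : W} (h : S.s i * v = v * S.s j) :
    S.dg r i v = S.dg r j v⁻¹ ∧ S.dg r i (v * S.s j) = S.dg r j (S.s i * v)⁻¹ := by
  classical
  have h1 := S.key_eq i j v h
  have h2 := S.key_eq i j (v * S.s j) (by rw [S.mul_s_mul_s, ← h, S.s_mul_s_mul])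
  rw [← h] at h2
  simp only [dg, ← h]
  exact ⟨if_congr h1 rfl rfl, if_congr h2 rfl rfl⟩

theorem R_comm_L (r : ℝ) (i j : I) : Commute (S.R r j) (S.L r i) := by
  classical
  refine Matrix.ext fun v u => ?_
  rw [S.R_mul_apply, S.L_mul_apply]
  simp only [L, R, Matrix.of_apply, ← mul_assoc]
  by_cases h : S.s i * v = v * S.s j
  · obtain ⟨e1, e2⟩ := S.dg_swap (r := r) h
    rw [h, e1, show S.dg r i (v * S.s j) = S.dg r j (v * S.s j)⁻¹ by rw [e2, h],
      show v * S.s j * S.s j = v by rw [S.mul_s_mul_s]]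
  · have e1 : S.dg r i (v * S.s j) = S.dg r i v := if_congr (S.key i j v h) rfl rfl
    have h' : S.s j * v⁻¹ ≠ v⁻¹ * S.s i := fun e => h (by
      have := congrArg (·⁻¹) e
      simp only [_root_.mul_inv_rev, inv_inv, S.inv_s] at this
      exact this.symm)
    have e2 : S.dg r j (S.s i * v)⁻¹ = S.dg r j v⁻¹ := by
      rw [_root_.mul_inv_rev, S.inv_s]
      exact if_congr (S.key j i v⁻¹ h') rfl rfl
    rw [e1, e2]
    split_ifs <;> ring

/-- The algebra: everything commuting with the right generators. -/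
def alg (r : ℝ) : Subalgebra ℂ (Matrix W W ℂ) :=
  Subalgebra.centralizer ℂ (Set.range (S.R r))

theorem mem_alg {r : ℝ} {X : Matrix W W ℂ} : X ∈ S.alg r ↔ ∀ j, Commute (S.R r j) X := by
  simp [alg, Subalgebra.mem_centralizer_iff, Commute, SemiconjBy]

theorem L_mem (r : ℝ) (i : I) : S.L r i ∈ S.alg r := S.mem_alg.2 fun j => S.R_comm_L r i j

theorem conjTranspose_L (r : ℝ) (i : I) : (S.L r i)ᴴ = S.L r i := by
  classical
  refine Matrix.ext fun v u => ?_
  simp only [Matrix.conjTranspose_apply, L, Matrix.of_apply, dg]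
  by_cases huv : u = v
  · subst huv
    split_ifs <;> simp
  · have h : v = S.s i * u ↔ u = S.s i * v :=
      ⟨fun h => by rw [h, S.s_mul_s_mul], fun h => by rw [h, S.s_mul_s_mul]⟩
    rw [if_neg huv, if_neg (Ne.symm huv)]
    split_ifs with h1 h2 h2
    · simp
    · exact absurd (h.1 h1) h2
    · exact absurd (h.2 h2) h1
    · simp

theorem conjTranspose_R (r : ℝ) (j : I) : (S.R r j)ᴴ = S.R r j := by
  classical
  refine Matrix.ext fun v u => ?_
  simp only [Matrix.conjTranspose_apply, R, Matrix.of_apply, dg]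
  by_cases huv : u = v
  · subst huv
    split_ifs <;> simp
  · have h : v = u * S.s j ↔ u = v * S.s j :=
      ⟨fun h => by rw [h, S.mul_s_mul_s], fun h => by rw [h, S.mul_s_mul_s]⟩
    rw [if_neg huv, if_neg (Ne.symm huv)]
    split_ifs with h1 h2 h2
    · simp
    · exact absurd (h.1 h1) h2
    · exact absurd (h.2 h2) h1
    · simp

theorem conjTranspose_mem {r : ℝ} {X : Matrix W W ℂ} (h : X ∈ S.alg r) : Xᴴ ∈ S.alg r := by
  refine S.mem_alg.2 fun j => ?_
  have := congrArg Matrix.conjTranspose (S.mem_alg.1 h j).eq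
  rw [Matrix.conjTranspose_mul, Matrix.conjTranspose_mul, S.conjTranspose_R] at this
  exact this.symm

open Classical in
/-- The standard basis element attached to `w`. -/
noncomputable def B (r : ℝ) (w : W) : Matrix W W ℂ :=
  if h : w = 1 then 1 else
    (r : ℂ)⁻¹ • (S.L r (S.exists_down w h).choose * B r (S.s (S.exists_down w h).choose * w))
termination_by S.m w
decreasing_by exact S.m_lt _ _ (S.exists_down w h).choose_spec

open Classical in
theorem B_one (r : ℝ) : S.B r 1 = 1 := by rw [B, dif_pos rfl]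

/-- Induction along the descents used in `B`. -/
theorem induct {motive : W → Prop} (one : motive 1)
    (step : ∀ i w, S.down i w → motive (S.s i * w) → motive w) (w : W) : motive w := by
  induction hm : S.m w using Nat.strong_induction_on generalizing w with
  | _ k ih =>
    by_cases h : w = 1
    · rwa [h]
    · obtain ⟨i, hi⟩ := S.exists_down w h
      exact step i w hi (ih _ (hm ▸ S.m_lt i w hi) _ rfl)

theorem B_mem (r : ℝ) (w : W) : S.B r w ∈ S.alg r := by
  classical
  induction hm : S.m w using Nat.strong_induction_on generalizing w with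
  | _ k ih =>
    rw [B]
    split_ifs with h
    · exact one_mem _
    · exact Subalgebra.smul_mem _ (mul_mem (S.L_mem r _)
        (ih _ (hm ▸ S.m_lt _ _ (S.exists_down w h).choose_spec) _ rfl)) _

variable {r : ℝ}

/-- An element of the algebra is determined by its first column. -/
theorem eq_zero_of_col (hr : r ≠ 0) {X : Matrix W W ℂ} (hX : X ∈ S.alg r) (h : ∀ v, X v 1 = 0) :
    X = 0 := by
  suffices ∀ w v, X v w⁻¹ = 0 by
    refine Matrix.ext fun v w => ?_
    have := this w⁻¹ v
    rwa [inv_inv] at this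
  intro w
  induction w using S.induct with
  | one => intro v; rw [inv_one]; exact h v
  | step i w hi ih =>
    intro v
    have e := congrFun (congrFun (S.mem_alg.1 hX i).eq v) (S.s i * w)⁻¹
    rw [S.R_mul_apply, S.mul_R_apply, ih, ih, mul_zero, mul_zero, add_zero,
      show (S.s i * w)⁻¹ * S.s i = w⁻¹ by rw [_root_.mul_inv_rev, S.inv_s, S.mul_s_mul_s]] at e
    rw [mul_zero, add_zero] at e
    exact (mul_eq_zero.1 e.symm).resolve_left (by exact_mod_cast hr)

theorem eq_of_col (hr : r ≠ 0) {X Y : Matrix W W ℂ} (hX : X ∈ S.alg r) (hY : Y ∈ S.alg r)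
    (h : ∀ v, X v 1 = Y v 1) : X = Y :=
  sub_eq_zero.1 (S.eq_zero_of_col hr (sub_mem hX hY) fun v => by rw [Matrix.sub_apply, h, sub_self])

open Classical in
theorem B_col (hr : r ≠ 0) (w v : W) : S.B r w v 1 = if v = w then 1 else 0 := by
  induction hm : S.m w using Nat.strong_induction_on generalizing w v with
  | _ k ih =>
    rw [B]
    split_ifs with h hv hv
    · subst h hv; exact Matrix.one_apply_eq _
    · subst h; exact Matrix.one_apply_ne hv
    all_goals
      set i := (S.exists_down w h).choose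
      have hd : S.down i w := (S.exists_down w h).choose_spec
      have hlt : S.m (S.s i * w) < k := hm ▸ S.m_lt i w hd
      have hnd : ¬ S.down i (S.s i * w) := fun h' => (S.flip i w).1 h' hd
      rw [Matrix.smul_apply, smul_eq_mul, S.L_mul_apply, ih _ hlt _ _ rfl, ih _ hlt _ _ rfl]
    · subst hv
      rw [if_pos rfl, if_neg (fun e => S.s_ne_one i (mul_eq_right.1 e.symm))]
      simp [hr]
    · rw [if_neg (fun e => hv (mul_left_cancel e))]
      by_cases he : v = S.s i * w
      · subst he
        simp [dg, hnd]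
      · simp [he]

/-- The element of the algebra with a given first column. -/
noncomputable def elt (r : ℝ) : (W → ℂ) →ₗ[ℂ] Matrix W W ℂ where
  toFun x := ∑ w, x w • S.B r w
  map_add' x y := by simp [add_smul, Finset.sum_add_distrib]
  map_smul' c x := by simp [Finset.smul_sum, mul_smul]

/-- The first column. -/
def col : Matrix W W ℂ →ₗ[ℂ] (W → ℂ) where
  toFun X v := X v 1
  map_add' _ _ := rfl
  map_smul' _ _ := rfl

omit [Fintype W] in
@[simp] theorem col_apply (X : Matrix W W ℂ) (v : W) : col X v = X v 1 := rfl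

theorem elt_mem (r : ℝ) (x : W → ℂ) : S.elt r x ∈ S.alg r :=
  sum_mem fun w _ => Subalgebra.smul_mem _ (S.B_mem r w) _

theorem col_elt (hr : r ≠ 0) (x : W → ℂ) : col (S.elt r x) = x := by
  classical
  funext v
  simp [elt, Matrix.sum_apply, S.B_col hr]

theorem elt_col (hr : r ≠ 0) {X : Matrix W W ℂ} (hX : X ∈ S.alg r) : S.elt r (col X) = X :=
  S.eq_of_col hr (S.elt_mem r _) hX fun v => congrFun (S.col_elt hr (col X)) v

open Classical in
theorem elt_single (r : ℝ) (w : W) : S.elt r (Pi.single w 1) = S.B r w := by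
  simp [elt, Pi.single_apply, ite_smul]

theorem commute_B {Z : Matrix W W ℂ} (hZ : ∀ i, Commute (S.L r i) Z) (w : W) :
    Commute (S.B r w) Z := by
  classical
  induction hm : S.m w using Nat.strong_induction_on generalizing w with
  | _ k ih =>
    rw [B]
    split_ifs with h
    · exact Commute.one_left _
    · exact ((hZ _).mul_left (ih _ (hm ▸ S.m_lt _ _ (S.exists_down w h).choose_spec) _ rfl)).smul_left _

/-- The central elements, by their first columns. -/
noncomputable def centre (r : ℝ) : Submodule ℂ (W → ℂ) where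
  carrier := {x | ∀ i, Commute (S.L r i) (S.elt r x)}
  add_mem' hx hy i := by rw [map_add]; exact (hx i).add_right (hy i)
  zero_mem' i := by rw [map_zero]; exact Commute.zero_right _
  smul_mem' c x hx i := by rw [map_smul]; exact (hx i).smul_right c

/-- Averaging over the dual bases. -/
noncomputable def avg (r : ℝ) : Matrix W W ℂ →ₗ[ℂ] Matrix W W ℂ where
  toFun X := ∑ w, S.B r w * X * (S.B r w)ᴴ
  map_add' X Y := by simp [mul_add, add_mul, Finset.sum_add_distrib]
  map_smul' c X := by simp [Finset.smul_sum]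

theorem avg_mem {X : Matrix W W ℂ} (hX : X ∈ S.alg r) : S.avg r X ∈ S.alg r :=
  sum_mem fun w _ => mul_mem (mul_mem (S.B_mem r w) hX) (S.conjTranspose_mem (S.B_mem r w))

theorem L_mul_B (hr : r ≠ 0) (i : I) (w : W) : S.L r i * S.B r w = ∑ v, S.L r i v w • S.B r v := by
  classical
  refine S.eq_of_col hr (mul_mem (S.L_mem r i) (S.B_mem r w))
    (sum_mem fun v _ => Subalgebra.smul_mem _ (S.B_mem r v) _) fun v => ?_
  simp [Matrix.mul_apply, Matrix.sum_apply, S.B_col hr]

theorem L_comm_avg (hr : r ≠ 0) (i : I) (X : Matrix W W ℂ) : Commute (S.L r i) (S.avg r X) := by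
  have hstar : ∀ v w, star (S.L r i v w) = S.L r i w v := fun v w => by
    rw [← Matrix.conjTranspose_apply, S.conjTranspose_L]
  have h2 : ∀ w, (S.B r w)ᴴ * S.L r i = ∑ v, S.L r i w v • (S.B r v)ᴴ := fun w => by
    have h := congrArg Matrix.conjTranspose (S.L_mul_B hr i w)
    rw [Matrix.conjTranspose_mul, S.conjTranspose_L, Matrix.conjTranspose_sum] at h
    rw [h]
    simp only [Matrix.conjTranspose_smul, hstar]
  show S.L r i * ∑ w, S.B r w * X * (S.B r w)ᴴ = (∑ w, S.B r w * X * (S.B r w)ᴴ) * S.L r i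
  rw [Finset.mul_sum, Finset.sum_mul]
  simp only [← mul_assoc, S.L_mul_B hr, Finset.sum_mul]
  simp only [mul_assoc _ (S.B r _)ᴴ (S.L r i), h2, Finset.mul_sum, smul_mul_assoc, mul_smul_comm]
  exact Finset.sum_comm

theorem avg_of_commute {X : Matrix W W ℂ} (hX : ∀ i, Commute (S.L r i) X) :
    S.avg r X = X * S.avg r 1 := by
  show (∑ w, S.B r w * X * (S.B r w)ᴴ) = X * ∑ w, S.B r w * 1 * (S.B r w)ᴴ
  rw [Finset.mul_sum]
  refine Finset.sum_congr rfl fun w _ => ?_
  rw [mul_one, ← mul_assoc, (S.commute_B hX w).eq]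

open Classical in
theorem avg_one_isUnit : IsUnit (S.avg r 1).det := by
  open scoped ComplexOrder in
  have h : (S.avg r (1 : Matrix W W ℂ)).PosDef := by
    show (∑ w, S.B r w * 1 * (S.B r w)ᴴ).PosDef
    rw [← Finset.add_sum_erase _ _ (Finset.mem_univ (1 : W)), S.B_one, Matrix.conjTranspose_one,
      mul_one, mul_one]
    refine Matrix.PosDef.one.add_posSemidef (Matrix.posSemidef_sum _ fun w _ => ?_)
    rw [mul_one]
    exact Matrix.posSemidef_self_mul_conjTranspose _
  exact (Matrix.isUnit_iff_isUnit_det _).1 h.isUnit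

open Classical in
theorem commute_inv_avg_one {Y : Matrix W W ℂ} (h : Commute Y (S.avg r 1)) :
    Commute Y (S.avg r 1)⁻¹ := by
  have hu := S.avg_one_isUnit (r := r)
  calc Y * (S.avg r 1)⁻¹ = (S.avg r 1)⁻¹ * (S.avg r 1 * Y) * (S.avg r 1)⁻¹ := by
        rw [Matrix.nonsing_inv_mul_cancel_left _ _ hu]
    _ = (S.avg r 1)⁻¹ * Y := by
        rw [← h.eq, mul_assoc, Matrix.mul_nonsing_inv_cancel_right _ _ hu]

open Classical in
/-- The projection onto the centre. -/
noncomputable def proj (r : ℝ) : (W → ℂ) →ₗ[ℂ] (W → ℂ) :=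
  col ∘ₗ LinearMap.mulRight ℂ (S.avg r 1)⁻¹ ∘ₗ S.avg r ∘ₗ S.elt r

open Classical in
theorem proj_isProj (hr : r ≠ 0) : LinearMap.IsProj (S.centre r) (S.proj r) := by
  have hu := S.avg_one_isUnit (r := r)
  refine ⟨fun x i => ?_, fun x hx => ?_⟩
  · have hm : S.avg r (S.elt r x) * (S.avg r 1)⁻¹ ∈ S.alg r := mul_mem (S.avg_mem (S.elt_mem r x))
      (S.mem_alg.2 fun j => S.commute_inv_avg_one (S.mem_alg.1 (S.avg_mem (one_mem _)) j))
    show Commute _ (S.elt r (col (S.avg r (S.elt r x) * (S.avg r 1)⁻¹)))
    rw [S.elt_col hr hm]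
    exact (S.L_comm_avg hr i _).mul_right (S.commute_inv_avg_one (S.L_comm_avg hr i 1))
  · show col (S.avg r (S.elt r x) * (S.avg r 1)⁻¹) = x
    rw [S.avg_of_commute hx, Matrix.mul_nonsing_inv_cancel_right _ _ hu, S.col_elt hr]

open Classical in
theorem finrank_centre (hr : r ≠ 0) :
    (Module.finrank ℂ (S.centre r) : ℂ) = ∑ v, (S.avg r (S.B r v) * (S.avg r 1)⁻¹) v 1 := by
  rw [← (S.proj_isProj hr).trace, LinearMap.trace_eq_matrix_trace ℂ (Pi.basisFun ℂ W), Matrix.trace]
  refine Finset.sum_congr rfl fun v _ => ?_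
  simp [LinearMap.toMatrix_apply, proj, S.elt_single]

theorem continuousOn_B (w : W) : ContinuousOn (fun r => S.B r w) (Set.Ioi 0) := by
  classical
  induction hm : S.m w using Nat.strong_induction_on generalizing w with
  | _ k ih =>
    by_cases h : w = 1
    · subst h
      simp only [S.B_one]
      exact continuousOn_const
    · have e : (fun r => S.B r w) = fun r : ℝ => (r : ℂ)⁻¹ •
          (S.L r (S.exists_down w h).choose * S.B r (S.s (S.exists_down w h).choose * w)) := by
        funext r
        rw [B, dif_neg h]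
      rw [e]
      refine ContinuousOn.smul (M := ℂ) ?_ ?_
      · exact Complex.continuous_ofReal.continuousOn.inv₀ fun r hr => by
          exact_mod_cast (Set.mem_Ioi.1 hr).ne'
      · refine ContinuousOn.mul (Continuous.continuousOn ?_)
          (ih _ (hm ▸ S.m_lt _ _ (S.exists_down w h).choose_spec) _ rfl)
        refine continuous_matrix fun v u => ?_
        simp only [L, Matrix.of_apply, dg]
        split_ifs <;> fun_prop

theorem continuousOn_avg (f : ℝ → Matrix W W ℂ) (hf : ContinuousOn f (Set.Ioi 0)) :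
    ContinuousOn (fun r => S.avg r (f r)) (Set.Ioi 0) := by
  show ContinuousOn (fun r => ∑ w, S.B r w * f r * (S.B r w)ᴴ) _
  refine continuousOn_finsetSum _ fun w _ => ((S.continuousOn_B w).mul hf).mul ?_
  exact continuous_id.matrix_conjTranspose.comp_continuousOn (S.continuousOn_B w)

open Classical in
theorem continuousOn_trace :
    ContinuousOn (fun r => ∑ v, (S.avg r (S.B r v) * (S.avg r 1)⁻¹) v 1) (Set.Ioi 0) := by
  refine continuousOn_finsetSum _ fun v _ => ?_
  refine (continuous_id.matrix_elem v 1).comp_continuousOn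
    ((S.continuousOn_avg _ (S.continuousOn_B v)).mul ?_)
  intro r hr
  refine ContinuousAt.comp_continuousWithinAt ?_ (S.continuousOn_avg _ continuousOn_const r hr)
  refine continuousAt_matrix_inv _ ?_
  rw [show (Ring.inverse : ℂ → ℂ) = Inv.inv from Ring.inverse_eq_inv']
  exact continuousAt_inv₀ S.avg_one_isUnit.ne_zero

/-- The dimension of the centre does not depend on the parameter. -/
theorem finrank_centre_eq {a b : ℝ} (ha : 0 < a) (hb : 0 < b) :
    Module.finrank ℂ (S.centre a) = Module.finrank ℂ (S.centre b) := by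
  classical
  have hmaps : Set.MapsTo (fun r => ∑ v, (S.avg r (S.B r v) * (S.avg r 1)⁻¹) v 1) (Set.Ioi 0)
      ((fun n : ℕ => (n : ℂ)) '' Set.Iic (Fintype.card W)) := by
    intro r hr
    exact ⟨_, (Submodule.finrank_le _).trans_eq (Module.finrank_fintype_fun_eq_card ℂ),
      S.finrank_centre (Set.mem_Ioi.1 hr).ne'⟩
  have h := (isPreconnected_Ioi (a := (0 : ℝ))).constant_of_mapsTo
    ((Set.finite_Iic _).image _).isDiscrete S.continuousOn_trace hmaps ha hb
  rw [← S.finrank_centre ha.ne', ← S.finrank_centre hb.ne'] at h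
  exact_mod_cast h

omit [Fintype W] in
open Classical in
theorem L_one_apply (i : I) (v u : W) : S.L 1 i v u = if u = S.s i * v then 1 else 0 := by
  simp [L, dg]

/-- At the parameter one the centre is that of the group algebra. -/
theorem finrank_centre_one : Module.finrank ℂ (S.centre 1) = Nat.card (ConjClasses W) := by
  classical
  have hB : ∀ w, S.B 1 w = Matrix.of fun v u => if v = w * u then (1 : ℂ) else 0 := by
    intro w
    refine S.eq_of_col one_ne_zero (S.B_mem 1 w) (S.mem_alg.2 fun j => Matrix.ext fun v u => ?_)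
      fun v => by simp [S.B_col one_ne_zero]
    rw [S.R_mul_apply, S.mul_R_apply]
    simp only [dg, Complex.ofReal_one, one_pow, sub_self, ite_self, zero_mul, add_zero, one_mul,
      Matrix.of_apply]
    refine if_congr ⟨fun h => ?_, fun h => ?_⟩ rfl rfl
    · rw [← mul_assoc, ← h, S.mul_s_mul_s]
    · rw [h, ← mul_assoc, S.mul_s_mul_s]
  have hE : ∀ v, S.avg 1 (S.B 1 v) =
      Matrix.of fun a b => ((Finset.univ.filter fun w => w * v * w⁻¹ * b = a).card : ℂ) := by
    intro v
    refine Matrix.ext fun a b => ?_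
    show (∑ w, S.B 1 w * S.B 1 v * (S.B 1 w)ᴴ) a b = _
    rw [Matrix.sum_apply, Matrix.of_apply, ← Finset.sum_boole]
    refine Finset.sum_congr rfl fun w _ => ?_
    have hmul : ∀ x y, S.B 1 x * S.B 1 y = S.B 1 (x * y) := fun x y => Matrix.ext fun c d => by
      simp [hB, Matrix.mul_apply, mul_assoc]
    have hstar : (S.B 1 w)ᴴ = S.B 1 w⁻¹ := Matrix.ext fun c d => by
      simp [hB, Matrix.conjTranspose_apply, apply_ite star, eq_inv_mul_iff_mul_eq, eq_comm (a := d)]
    rw [hstar, hmul, hmul, hB]
    simp [eq_comm (a := a)]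
  have hc : S.avg 1 (1 : Matrix W W ℂ) = (Fintype.card W : ℂ) • (1 : Matrix W W ℂ) := by
    rw [← S.B_one 1, hE, S.B_one 1]
    refine Matrix.ext fun a b => ?_
    by_cases h : a = b
    · subst h; simp
    · simp [h, Ne.symm h]
  have hcard : (Fintype.card W : ℂ) ≠ 0 := by exact_mod_cast Fintype.card_ne_zero
  have hinv : ((Fintype.card W : ℂ) • (1 : Matrix W W ℂ))⁻¹ = (Fintype.card W : ℂ)⁻¹ • 1 :=
    Matrix.inv_eq_right_inv (by simp [hcard])
  have h := S.finrank_centre (r := 1) one_ne_zero
  simp only [hE, hc, hinv, mul_smul_comm, mul_one, Matrix.smul_apply, Matrix.of_apply,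
    smul_eq_mul] at h
  rw [← Finset.mul_sum, ← Nat.cast_sum] at h
  have hpairs : ∑ v : W, (Finset.univ.filter fun w => w * v * w⁻¹ * 1 = v).card =
      Nat.card (ConjClasses W) * Fintype.card W := by
    rw [← Nat.card_eq_fintype_card (α := W), ← card_comm_eq_card_conjClasses_mul_card,
      Nat.card_congr (show {p : W × W // Commute p.1 p.2} ≃ Σ v : W, {w : W // w * v * w⁻¹ * 1 = v} from
        { toFun := fun p => ⟨p.1.2, p.1.1, by rw [mul_one, p.2.eq, mul_inv_cancel_right]⟩
          invFun := fun s => ⟨(s.2.1, s.1), by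
            have := s.2.2
            rw [mul_one, mul_inv_eq_iff_eq_mul] at this
            exact this⟩
          left_inv := fun p => rfl
          right_inv := fun s => rfl }),
      Nat.card_sigma]
    simp [Nat.card_eq_fintype_card, Fintype.card_subtype]
  simp only [mul_one] at hpairs
  rw [hpairs, Nat.cast_mul, mul_comm _ (Fintype.card W : ℂ), inv_mul_cancel_left₀ hcard] at h
  exact_mod_cast h

end Sys

end Cfsg.Lib.Hecke
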